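import Groth.Agent.L07.PushDepth.Stalk
import Mathlib.RingTheory.Flat.EquationalCriterion
import Mathlib.RingTheory.Flat.Localization
import Mathlib.RingTheory.Regular.RegularSequence
import Mathlib.RingTheory.Ideal.AssociatedPrime.Finiteness

/-!
Depth of the stalks of direct images.
-/

set_option autoImplicit false
set_option linter.style.haveILetI false
set_option backward.isDefEq.respectTransparency false
set_option backward.isDefEq.respectTransparency.types false

universe u v

open CategoryTheory AlgebraicGeometry TopologicalSpace Opposite IsLocalRing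
open scoped Pointwise

noncomputable section

namespace Groth.L07.PushDepth

section Algebra

variable {R : Type u} [CommRing R] {M : Type v} [AddCommGroup M] [Module R M]

theorem regular_of_flat [Module.Flat R M] {a : R} (ha : ∀ c, a * c = 0 → c = 0) {v : M} (hv : a • v = 0) :
    v = 0 := by
  obtain ⟨k, r, y, hy, hr⟩ := Module.Flat.isTrivialRelation_of_sum_smul_eq_zero
    (f := fun _ : Fin 1 => a) (x := fun _ => v) (by simpa using hv)
  rw [show v = ∑ j, r 0 j • y j from hy 0]
  exact Finset.sum_eq_zero fun j _ => by rw [ha (r 0 j) (by simpa using hr j), zero_smul]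

theorem regular_mod_of_flat [Module.Flat R M] {a b : R} (hb : ∀ c d, b * c = a * d → ∃ e, c = a * e)
    {v w : M} (h : b • v = a • w) : ∃ e, v = a • e := by
  obtain ⟨k, r, y, hy, hr⟩ := Module.Flat.isTrivialRelation_of_sum_smul_eq_zero
    (f := ![b, -a]) (x := ![v, w]) (by simp [Fin.sum_univ_two, h])
  choose e he using fun j => hb (r 0 j) (r 1 j) (by
    have := hr j
    simp [Fin.sum_univ_two] at this
    linear_combination this)
  refine ⟨∑ j, e j • y j, ?_⟩
  rw [Finset.smul_sum, show v = ∑ j, r 0 j • y j from hy 0]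
  exact Finset.sum_congr rfl fun j _ => by rw [he j, mul_smul]

variable [IsLocalRing R]

theorem one_le_depth {a : R} (ha : a ∈ maximalIdeal R) (h : ∀ v : M, a • v = 0 → v = 0) :
    (1 : ℕ∞) ≤ LocCoh.depth R M := by
  unfold LocCoh.depth LocCoh.idealDepth
  split
  · exact le_top
  refine le_iSup₂_of_le [a] ⟨?_, by simpa using ha⟩ (by simp)
  rw [RingTheory.Sequence.isWeaklyRegular_singleton_iff]
  exact isSMulRegular_iff_right_eq_zero_of_smul.mpr h

theorem two_le_depth {a b : R} (ha : a ∈ maximalIdeal R) (hb : b ∈ maximalIdeal R)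
    (h : ∀ v : M, a • v = 0 → v = 0) (h2 : ∀ v w : M, b • v = a • w → ∃ e, v = a • e) :
    (2 : ℕ∞) ≤ LocCoh.depth R M := by
  unfold LocCoh.depth LocCoh.idealDepth
  split
  · exact le_top
  refine le_iSup₂_of_le [a, b] ⟨?_, by rw [List.forall_mem_cons, List.forall_mem_cons]; exact ⟨ha, hb, by simp⟩⟩
    (by simp)
  rw [RingTheory.Sequence.isWeaklyRegular_cons_iff, RingTheory.Sequence.isWeaklyRegular_singleton_iff]
  refine ⟨isSMulRegular_iff_right_eq_zero_of_smul.mpr h, isSMulRegular_iff_right_eq_zero_of_smul.mpr fun q hq => ?_⟩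
  obtain ⟨v, rfl⟩ := Submodule.Quotient.mk_surjective _ q
  rw [← Submodule.Quotient.mk_smul, Submodule.Quotient.mk_eq_zero, Submodule.mem_smul_pointwise_iff_exists] at hq
  obtain ⟨w, -, hw⟩ := hq
  obtain ⟨e, rfl⟩ := h2 v w hw.symm
  rw [Submodule.Quotient.mk_eq_zero]
  exact Submodule.smul_mem_pointwise_smul _ _ _ Submodule.mem_top

theorem exists_regular [IsNoetherianRing R] [Module.Finite R M] [Nontrivial M]
    (h : ∀ v : M, (∀ g ∈ maximalIdeal R, g • v = 0) → v = 0) :
    ∃ a ∈ maximalIdeal R, ∀ v : M, a • v = 0 → v = 0 := by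
  by_contra! hc
  have hsub : (maximalIdeal R : Set R) ⊆ ⋃ p ∈ associatedPrimes R M, (p : Set R) := by
    rw [biUnion_associatedPrimes_eq_zero_divisors]
    exact fun a ha => (hc a ha).imp fun v hv => ⟨hv.2, hv.1⟩
  obtain ⟨p, hp, hle⟩ := (Ideal.subset_union_prime_finite (associatedPrimes.finite R M) (f := id) 0 0
    (fun p hp _ _ => hp.isPrime)).1 hsub
  obtain ⟨hpp, φ, hφ⟩ := (isAssociatedPrime_iff_exists_injective_linearMap p _).1 hp
  refine hpp.ne_top ((Ideal.eq_top_iff_one p).2 (Ideal.Quotient.eq_zero_iff_mem.1 (hφ ?_)))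
  rw [map_zero, h (φ _) fun g hg => ?_]
  rw [← map_smul, Algebra.smul_def, Ideal.Quotient.algebraMap_eq, ← map_mul, mul_one]
  exact (congrArg φ (Ideal.Quotient.eq_zero_iff_mem.2 (hle hg))).trans (map_zero φ)

/-- The depth is attained by a regular sequence. -/
theorem exists_of_le_depth {n : ℕ} (h : (n + 1 : ℕ∞) ≤ LocCoh.depth R R) :
    ∃ rs : List R, RingTheory.Sequence.IsWeaklyRegular R rs ∧ (∀ r ∈ rs, r ∈ maximalIdeal R) ∧ n + 1 ≤ rs.length := by
  unfold LocCoh.depth LocCoh.idealDepth at h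
  rw [if_neg (by rw [smul_eq_mul, Ideal.mul_top]; exact (maximalIdeal.isMaximal R).ne_top)] at h
  by_contra! hcon
  have h1 := h.trans (iSup₂_le (a := (n : ℕ∞)) fun rs hrs => by
    exact_mod_cast Nat.lt_succ_iff.mp (hcon rs hrs.1 hrs.2))
  exact absurd h1 (not_le.2 (by exact_mod_cast Nat.lt_succ_self n))

end Algebra

variable {X S : Scheme.{u}} (f : X ⟶ S) (F : X.Modules) (s : S)

section NotMem

variable [QuasiCompact f] (hs : s ∉ Set.range (fun x => f x))
include hs

theorem eq_zero_of_smul (v : (push f F).presheaf.stalk s)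
    (h : ∀ g ∈ maximalIdeal (S.presheaf.stalk s), g • v = 0) : v = 0 := by
  refine ext f F s v 0 fun z hz => ?_
  obtain ⟨r, hr, hu⟩ := exists_isUnit f s hz fun e => hs ⟨z, e⟩
  rw [map_zero]
  apply hu.smul_left_cancel.1
  rw [← ev_smul, h r hr, map_zero, smul_zero]

variable [QuasiSeparated f]

open Groth.L20.ModStalk (germ_smul germ_rs) in
theorem exists_eq_smul_of_socle {a : S.presheaf.stalk s}
    (ha : ∀ v : (push f F).presheaf.stalk s, a • v = 0 → v = 0) (v : (push f F).presheaf.stalk s)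
    (h : ∀ g ∈ maximalIdeal (S.presheaf.stalk s), ∃ y, a • y = g • v) : ∃ w, v = a • w := by
  choose y hy using h
  have hcomm : ∀ g (hg : g ∈ maximalIdeal _) g' (hg' : g' ∈ maximalIdeal (S.presheaf.stalk s)),
      g • y g' hg' = g' • y g hg := fun g hg g' hg' => by
    refine sub_eq_zero.1 (ha _ ?_)
    rw [smul_sub, smul_comm a g, hy g' hg', smul_comm a g', hy g hg, smul_comm g g', sub_self]
  choose r hr hu using fun (z : X) (hz : f z ⤳ s) => exists_isUnit f s hz fun e => hs ⟨z, e⟩
  let σ : ∀ z : X, f z ⤳ s → F.presheaf.stalk z := fun z hz =>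
    ((hu z hz).unit⁻¹ : (X.presheaf.stalk z)ˣ) • ev f F s hz (y _ (hr z hz))
  have hσ : ∀ (z : X) (hz : f z ⤳ s) g (hg : g ∈ maximalIdeal (S.presheaf.stalk s)),
      evRing f s hz g • σ z hz = ev f F s hz (y g hg) := fun z hz g hg => by
    show evRing f s hz g • ((hu z hz).unit⁻¹ • _) = _
    rw [smul_comm, inv_smul_eq_iff, Units.smul_def, IsUnit.unit_spec, ← ev_smul, ← ev_smul,
      hcomm g hg _ (hr z hz)]
  obtain ⟨w, hw⟩ := exists_of_germs f F s σ fun z hz => by
    obtain ⟨O, hsO, g, hg⟩ := TopCat.Presheaf.exists_germ_eq (F := S.presheaf) (r z hz)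
    obtain ⟨O', hsO', t, ht⟩ := exists_rep f F s (y _ (hr z hz))
    let N : X.Opens := X.basicOpen (f.app O g) ⊓ f ⁻¹ᵁ O'
    have hN : N ≤ X.basicOpen (f.app O g) := inf_le_left
    have hNO : N ≤ f ⁻¹ᵁ O := le_trans hN (X.basicOpen_le _)
    have hzN : z ∈ N := by
      refine ⟨?_, hz.mem_open O'.2 hsO'⟩
      rw [SetLike.mem_coe, X.mem_basicOpen _ z (hz.mem_open O.2 hsO), ← evRing_germ f s hz O hsO, hg]
      exact hu z hz
    have hgu : IsUnit (Groth.L18.Frame.ro hNO (f.app O g)) := by
      refine RingedSpace.isUnit_of_isUnit_germ X.toRingedSpace N _ fun x hx => ?_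
      show IsUnit (X.presheaf.germ N x hx (X.presheaf.map (homOfLE hNO).op (f.app O g)))
      rw [TopCat.Presheaf.germ_res_apply]
      exact (X.mem_basicOpen _ x (hNO hx)).1 (hN hx)
    refine ⟨N, hzN, (hgu.unit⁻¹ : Γ(X, N)ˣ).1 • Groth.L18.Frame.rs F inf_le_right t, fun z' hz' hs' => ?_⟩
    have hu' : IsUnit (evRing f s hs' (r z hz)) := by
      rw [← hg, evRing_germ]
      exact (X.mem_basicOpen _ z' (hNO hz')).1 (hN hz')
    apply hu'.smul_left_cancel.1
    rw [hσ z' hs' _ (hr z hz), ← ht, ev_germ, ← hg, evRing_germ,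
      ← TopCat.Presheaf.germ_res_apply X.presheaf (homOfLE hNO) z' hz', ← germ_smul, smul_smul,
      show X.presheaf.map (homOfLE hNO).op (f.app O g) * (hgu.unit⁻¹ : Γ(X, N)ˣ).1 = 1 from hgu.mul_val_inv,
      one_smul, germ_rs]
  refine ⟨w, ext f F s _ _ fun z hz => ?_⟩
  apply (hu z hz).smul_left_cancel.1
  rw [← ev_smul, ev_smul _ _ _ hz a, hw, smul_comm, hσ z hz _ (hr z hz), ← ev_smul, hy]

theorem two_le_depth_of_notMem [IsNoetherianRing (S.presheaf.stalk s)]
    [Module.Finite (S.presheaf.stalk s) ((push f F).presheaf.stalk s)] :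
    (2 : ℕ∞) ≤ LocCoh.depth (S.presheaf.stalk s) ((push f F).presheaf.stalk s) := by
  rcases subsingleton_or_nontrivial ((push f F).presheaf.stalk s) with hM | hM
  · unfold LocCoh.depth LocCoh.idealDepth
    rw [if_pos (Subsingleton.elim _ _)]
    exact le_top
  · obtain ⟨a, ha, hreg⟩ := exists_regular (eq_zero_of_smul f F s hs)
    let Q := QuotSMulTop a ((push f F).presheaf.stalk s)
    have hsoc : ∀ q : Q, (∀ g ∈ maximalIdeal (S.presheaf.stalk s), g • q = 0) → q = 0 := by
      intro q hq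
      obtain ⟨v, rfl⟩ := Submodule.Quotient.mk_surjective _ q
      obtain ⟨w, rfl⟩ := exists_eq_smul_of_socle f F s hs hreg v fun g hg => by
        have := hq g hg
        rw [← Submodule.Quotient.mk_smul, Submodule.Quotient.mk_eq_zero,
          Submodule.mem_smul_pointwise_iff_exists] at this
        exact this.imp fun w hw => hw.2
      exact (Submodule.Quotient.mk_eq_zero _).2 (Submodule.smul_mem_pointwise_smul _ _ _ Submodule.mem_top)
    rcases subsingleton_or_nontrivial Q with hQ | hQ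
    · refine two_le_depth ha ha hreg fun v w _ => ?_
      obtain ⟨e, -, he⟩ := Submodule.mem_smul_pointwise_iff_exists _ _ _ |>.1
        ((Submodule.Quotient.mk_eq_zero _).1 (Subsingleton.elim (Submodule.Quotient.mk v : Q) 0))
      exact ⟨e, he.symm⟩
    · obtain ⟨b, hb, hbreg⟩ := exists_regular hsoc
      refine two_le_depth ha hb hreg fun v w hvw => ?_
      have : b • (Submodule.Quotient.mk v : Q) = 0 := by
        rw [← Submodule.Quotient.mk_smul, Submodule.Quotient.mk_eq_zero, hvw]
        exact Submodule.smul_mem_pointwise_smul _ _ _ Submodule.mem_top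
      obtain ⟨e, -, he⟩ := Submodule.mem_smul_pointwise_iff_exists _ _ _ |>.1
        ((Submodule.Quotient.mk_eq_zero _).1 (hbreg _ this))
      exact ⟨e, he.symm⟩

end NotMem

section Flat

variable (hF : FlatMod.IsFlatOver f F) {a : S.presheaf.stalk s} (ha : ∀ c, a * c = 0 → c = 0)

theorem flat_stalkSpecializes {t : S} (h : t ⤳ s) :
    letI := (S.presheaf.stalkSpecializes h).hom.toAlgebra
    Module.Flat (S.presheaf.stalk s) (S.presheaf.stalk t) := by
  letI := (S.presheaf.stalkSpecializes h).hom.toAlgebra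
  haveI : (RingHom.ker (Cyc.specMap s t h)).IsPrime := RingHom.ker_isPrime _
  haveI := Groth.L22.Cyc.isLocalization_stalkSpecializes h
  exact IsLocalization.flat _ (RingHom.ker (Cyc.specMap s t h)).primeCompl

include hF ha

theorem ev_regular {z : X} (hz : f z ⤳ s) (v : F.presheaf.stalk z) (h : evRing f s hz a • v = 0) : v = 0 := by
  letI := (S.presheaf.stalkSpecializes hz).hom.toAlgebra
  haveI := flat_stalkSpecializes s hz
  letI := FlatMod.moduleStalkOver f F z
  haveI : Module.Flat (S.presheaf.stalk (f z)) (F.presheaf.stalk z) := hF z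
  exact regular_of_flat (R := S.presheaf.stalk (f z)) (a := S.presheaf.stalkSpecializes hz a)
    (fun c hc => regular_of_flat ha (show a • c = 0 from hc)) h

theorem push_regular [QuasiCompact f] (v : (push f F).presheaf.stalk s) (h : a • v = 0) : v = 0 :=
  ext f F s v 0 fun z hz => by
    rw [map_zero]
    exact ev_regular f F s hF ha hz _ (by rw [← ev_smul, h, map_zero])

variable {b : S.presheaf.stalk s} (hb : ∀ c d, b * c = a * d → ∃ e, c = a * e)
include hb

omit ha in
theorem ev_regular_mod {z : X} (hz : f z ⤳ s) {v w : F.presheaf.stalk z}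
    (h : evRing f s hz b • v = evRing f s hz a • w) : ∃ e, v = evRing f s hz a • e := by
  letI := (S.presheaf.stalkSpecializes hz).hom.toAlgebra
  haveI := flat_stalkSpecializes s hz
  letI := FlatMod.moduleStalkOver f F z
  haveI : Module.Flat (S.presheaf.stalk (f z)) (F.presheaf.stalk z) := hF z
  exact regular_mod_of_flat (R := S.presheaf.stalk (f z)) (a := S.presheaf.stalkSpecializes hz a)
    (b := S.presheaf.stalkSpecializes hz b)
    (fun c d hcd => (regular_mod_of_flat hb (show b • c = a • d from hcd)).imp fun e he => he) h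

open Groth.L20.ModStalk (germ_smul germ_rs) in
theorem push_regular_mod [QuasiCompact f] [QuasiSeparated f] (v w : (push f F).presheaf.stalk s)
    (h : b • v = a • w) : ∃ e, v = a • e := by
  choose σ hσ using fun (z : X) (hz : f z ⤳ s) => ev_regular_mod f F s hF hb hz
    (v := ev f F s hz v) (w := ev f F s hz w) (by rw [← ev_smul, ← ev_smul, h])
  obtain ⟨e, he⟩ := exists_of_germs f F s σ fun z hz => by
    obtain ⟨O, hsO, y, hy⟩ := exists_rep f F s v
    obtain ⟨O', hsO', r, hr⟩ := TopCat.Presheaf.exists_germ_eq (F := S.presheaf) a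
    obtain ⟨N₀, hzN₀, t₀, ht₀⟩ := TopCat.Presheaf.exists_germ_eq (F := F.presheaf) (σ z hz)
    have hzO : z ∈ f ⁻¹ᵁ O := hz.mem_open O.2 hsO
    have hzO' : z ∈ f ⁻¹ᵁ O' := hz.mem_open O'.2 hsO'
    let N₁ : X.Opens := N₀ ⊓ f ⁻¹ᵁ O'
    have he1 : F.presheaf.germ (f ⁻¹ᵁ O) z hzO y = F.presheaf.germ N₁ z ⟨hzN₀, hzO'⟩
        (Groth.L18.Frame.ro (inf_le_right : N₁ ≤ f ⁻¹ᵁ O') (f.app O' r) •
          Groth.L18.Frame.rs F (inf_le_left : N₁ ≤ N₀) t₀) := by
      rw [germ_smul, germ_rs, TopCat.Presheaf.germ_res_apply, ht₀, ← evRing_germ f s hz O' hsO', hr, ← hσ z hz,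
        ← hy, ev_germ]
    obtain ⟨N, hzN, i, j, heq⟩ := TopCat.Presheaf.germ_eq F.presheaf z hzO (show z ∈ N₁ from ⟨hzN₀, hzO'⟩) _ _ he1
    refine ⟨N, hzN, Groth.L18.Frame.rs F (le_trans j.le inf_le_left) t₀, fun z' hz' hs' => ?_⟩
    refine sub_eq_zero.1 (ev_regular f F s hF ha hs' _ ?_)
    rw [smul_sub, sub_eq_zero, ← hσ z' hs', ← hy, ev_germ, ← germ_rs F i.le hz' y,
      show Groth.L18.Frame.rs F i.le y = Groth.L18.Frame.rs F j.le _ from heq, germ_rs, germ_rs, germ_smul,
      germ_rs, TopCat.Presheaf.germ_res_apply, ← evRing_germ f s hs' O' hsO', hr]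
  exact ⟨e, ext f F s _ _ fun z hz => by rw [ev_smul, he, ← hσ]⟩

end Flat

theorem min_le_depth_of_flat [QuasiCompact f] [QuasiSeparated f] (hF : FlatMod.IsFlatOver f F) :
    min (2 : ℕ∞) (LocCoh.depth (S.presheaf.stalk s) (S.presheaf.stalk s)) ≤
      LocCoh.depth (S.presheaf.stalk s) ((push f F).presheaf.stalk s) := by
  by_cases h2 : (2 : ℕ∞) ≤ LocCoh.depth (S.presheaf.stalk s) (S.presheaf.stalk s)
  · obtain ⟨rs, hrs, hmem, hlen⟩ := exists_of_le_depth (n := 1) (by rwa [Nat.cast_one, one_add_one_eq_two])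
    rcases rs with _ | ⟨a, _ | ⟨b, rs⟩⟩
    · simp at hlen
    · simp at hlen
    simp only [RingTheory.Sequence.isWeaklyRegular_cons_iff] at hrs
    obtain ⟨h1, h1', -⟩ := hrs
    rw [List.forall_mem_cons, List.forall_mem_cons] at hmem
    have ha : ∀ c, a * c = 0 → c = 0 := fun c hc => isSMulRegular_iff_right_eq_zero_of_smul.1 h1 c hc
    have hb : ∀ c d, b * c = a * d → ∃ e, c = a * e := fun c d hcd => by
      have hq : b • (Submodule.Quotient.mk c : QuotSMulTop a (S.presheaf.stalk s)) = 0 := by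
        rw [← Submodule.Quotient.mk_smul, Submodule.Quotient.mk_eq_zero, smul_eq_mul, hcd]
        exact Submodule.smul_mem_pointwise_smul _ _ _ Submodule.mem_top
      obtain ⟨e, -, he⟩ := Submodule.mem_smul_pointwise_iff_exists _ _ _ |>.1
        ((Submodule.Quotient.mk_eq_zero _).1 (isSMulRegular_iff_right_eq_zero_of_smul.1 h1' _ hq))
      exact ⟨e, he.symm⟩
    exact le_trans (min_le_left _ _) (two_le_depth hmem.1 hmem.2.1 (push_regular f F s hF ha)
      (push_regular_mod f F s hF ha hb))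
  by_cases h1 : (1 : ℕ∞) ≤ LocCoh.depth (S.presheaf.stalk s) (S.presheaf.stalk s)
  · obtain ⟨rs, hrs, hmem, hlen⟩ := exists_of_le_depth (n := 0) (by rwa [Nat.cast_zero, zero_add])
    rcases rs with _ | ⟨a, rs⟩
    · simp at hlen
    simp only [RingTheory.Sequence.isWeaklyRegular_cons_iff] at hrs
    rw [List.forall_mem_cons] at hmem
    refine le_trans (le_trans (min_le_right _ _) ?_) (one_le_depth hmem.1 (push_regular f F s hF
      fun c hc => isSMulRegular_iff_right_eq_zero_of_smul.1 hrs.1 c hc))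
    exact Order.le_of_lt_add_one (by rw [one_add_one_eq_two]; exact not_le.1 h2)
  · rw [Order.one_le_iff_ne_zero, not_not] at h1
    rw [h1, min_eq_right zero_le]
    exact zero_le

end Groth.L07.PushDepth
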