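import Groth.Agent.L15.Ref.Stalk
import Groth.Agent.L20.SchDesc.Orbit
import Groth.Prelude.Def_FlatMod2

/-!
The stalk of a direct image along a quasi-compact quasi-separated morphism, by compatible germs over the generalisations
of the point.
-/

set_option autoImplicit false
set_option linter.style.haveILetI false
set_option backward.isDefEq.respectTransparency false
set_option backward.isDefEq.respectTransparency.types false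

universe u

open CategoryTheory AlgebraicGeometry TopologicalSpace Opposite

noncomputable section

namespace Groth.L07.PushDepth

open Groth.L18.Frame (rs rs_rs)
open Groth.L20.ModStalk (germ_rs)
open Groth.L15.Ref (sec_ext)

variable {X S : Scheme.{u}} (f : X ⟶ S) (F : X.Modules) (s : S)

theorem exists_open_le_affine {W : S.Opens} (hW : IsAffineOpen W) (hs : s ∈ W) {V : X.Opens} (hV : IsAffineOpen V)
    (hVW : V ≤ f ⁻¹ᵁ W) (G : X.Opens) (h : ∀ x ∈ V, f x ⤳ s → x ∈ G) :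
    ∃ O : S.Opens, s ∈ O ∧ V ⊓ f ⁻¹ᵁ O ≤ G := by
  haveI : IsAffine (V : Scheme.{u}) := hV
  haveI : IsAffine (W : Scheme.{u}) := hW
  let g : (V : Scheme.{u}) ⟶ (W : Scheme.{u}) := f.resLE W V hVW
  have hg : ∀ c, W.ι (g c) = f (V.ι c) := fun c => by
    rw [← Scheme.Hom.comp_apply, Scheme.Hom.resLE_comp_ι, Scheme.Hom.comp_apply]
  let C : Set (V : Scheme.{u}) := V.ι ⁻¹' (G : Set X)ᶜ
  have hC : IsClosed C := G.isOpen.isClosed_compl.preimage V.ι.continuous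
  have hsC : (⟨s, hs⟩ : (W : Scheme.{u})) ∉ closure (g '' C) := fun hmem => by
    obtain ⟨c, hc, hcs⟩ := Groth.L20.SchDesc.exists_specializes_of_mem_closure_image g hC hmem
    refine hc (h (V.ι c) c.2 ?_)
    have := hcs.map W.ι.continuous
    rwa [hg] at this
  refine ⟨W.ι ''ᵁ ⟨(closure (g '' C))ᶜ, isClosed_closure.isOpen_compl⟩, ⟨⟨s, hs⟩, hsC, rfl⟩, ?_⟩
  rintro x ⟨hxV, w, hw, hwx⟩
  by_contra hxG
  refine hw (subset_closure ⟨⟨x, hxV⟩, hxG, W.ι.isOpenEmbedding.injective ?_⟩)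
  exact (hg _).trans hwx.symm

theorem exists_open_le {W : S.Opens} (hW : IsAffineOpen W) (hs : s ∈ W) {K : X.Opens}
    (hK : IsCompact (K : Set X)) (hKW : K ≤ f ⁻¹ᵁ W) (G : X.Opens) (h : ∀ x ∈ K, f x ⤳ s → x ∈ G) :
    ∃ O : S.Opens, s ∈ O ∧ K ⊓ f ⁻¹ᵁ O ≤ G := by
  classical
  choose V hV hxV hVK using fun x : K => exists_isAffineOpen_mem_and_subset (x := x.1) (U := K) x.2
  obtain ⟨T, hT⟩ := hK.elim_finite_subcover (fun x : K => (V x : Set X)) (fun x => (V x).isOpen)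
    fun x hx => Set.mem_iUnion.2 ⟨⟨x, hx⟩, hxV ⟨x, hx⟩⟩
  choose O hsO hO using fun x : K => exists_open_le_affine f s hW hs (hV x) (le_trans (hVK x) hKW) G
    fun y hy => h y (hVK x hy)
  refine ⟨⟨⋂ x ∈ T, (O x : Set S), isOpen_biInter_finset fun x _ => (O x).isOpen⟩,
    Set.mem_iInter₂.2 fun x _ => hsO x, ?_⟩
  rintro y ⟨hyK, hyO⟩
  obtain ⟨x, hxT, hyx⟩ := Set.mem_iUnion₂.1 (hT hyK)
  exact hO x ⟨hyx, Set.mem_iInter₂.1 hyO x hxT⟩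

theorem eq_near {W : S.Opens} (hW : IsAffineOpen W) (hs : s ∈ W) {K : X.Opens}
    (hK : IsCompact (K : Set X)) (hKW : K ≤ f ⁻¹ᵁ W) (a b : Γ(F, K))
    (h : ∀ (x : X) (hx : x ∈ K), f x ⤳ s → F.presheaf.germ K x hx a = F.presheaf.germ K x hx b) :
    ∃ O : S.Opens, s ∈ O ∧
      rs F (inf_le_left : K ⊓ f ⁻¹ᵁ O ≤ K) a = rs F (inf_le_left : K ⊓ f ⁻¹ᵁ O ≤ K) b := by
  let G : X.Opens := sSup {V | ∃ hV : V ≤ K, rs F hV a = rs F hV b}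
  obtain ⟨O, hsO, hO⟩ := exists_open_le f s hW hs hK hKW G fun x hx hxs => by
    obtain ⟨V, hxV, i, j, e⟩ := TopCat.Presheaf.germ_eq F.presheaf x hx hx a b (h x hx hxs)
    exact Opens.mem_sSup.2 ⟨V, ⟨i.le, e⟩, hxV⟩
  refine ⟨O, hsO, sec_ext fun y hy => ?_⟩
  obtain ⟨V, ⟨hV, e⟩, hyV⟩ := Opens.mem_sSup.1 (hO hy)
  rw [germ_rs, germ_rs, ← germ_rs F hV hyV a, ← germ_rs F hV hyV b, e]

variable [QuasiCompact f] [QuasiSeparated f]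

theorem exists_glue_near (σ : ∀ z : X, f z ⤳ s → F.presheaf.stalk z)
    (hloc : ∀ z : X, f z ⤳ s → ∃ (N : X.Opens) (_ : z ∈ N) (t : Γ(F, N)),
      ∀ (z' : X) (hz' : z' ∈ N) (hs' : f z' ⤳ s), F.presheaf.germ N z' hz' t = σ z' hs') :
    ∃ (O : S.Opens) (hsO : s ∈ O) (y : Γ(F, f ⁻¹ᵁ O)),
      ∀ (z : X) (hz : f z ⤳ s), F.presheaf.germ (f ⁻¹ᵁ O) z (hz.mem_open O.2 hsO) y = σ z hz := by
  classical
  obtain ⟨W, hW, hsW, -⟩ := exists_isAffineOpen_mem_and_subset (x := s) (U := ⊤) trivial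
  let G : X.Opens := sSup {N | ∃ t : Γ(F, N),
    ∀ (z' : X) (hz' : z' ∈ N) (hs' : f z' ⤳ s), F.presheaf.germ N z' hz' t = σ z' hs'}
  obtain ⟨O1, hsO1, hO1⟩ := exists_open_le f s hW hsW (f.isCompact_preimage hW.isCompact) le_rfl G
    fun x _ hxs => by
      obtain ⟨N, hxN, t, ht⟩ := hloc x hxs
      exact Opens.mem_sSup.2 ⟨N, ⟨t, ht⟩, hxN⟩
  obtain ⟨O0, hO0, hsO0, hO0le⟩ := exists_isAffineOpen_mem_and_subset (x := s) (U := W ⊓ O1) ⟨hsW, hsO1⟩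
  have hG : f ⁻¹ᵁ O0 ≤ G := le_trans (le_trans (f.preimage_mono hO0le) le_rfl) hO1
  have hsec : ∀ x : ↥(f ⁻¹ᵁ O0), ∃ V : X.Opens, IsAffineOpen V ∧ x.1 ∈ V ∧ V ≤ f ⁻¹ᵁ O0 ∧ ∃ t : Γ(F, V),
      ∀ (z' : X) (hz' : z' ∈ V) (hs' : f z' ⤳ s), F.presheaf.germ V z' hz' t = σ z' hs' := by
    intro x
    obtain ⟨N, ⟨t, ht⟩, hxN⟩ := Opens.mem_sSup.1 (hG x.2)
    obtain ⟨V, hV, hxV, hVle⟩ := exists_isAffineOpen_mem_and_subset (x := x.1) (U := N ⊓ f ⁻¹ᵁ O0) ⟨hxN, x.2⟩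
    refine ⟨V, hV, hxV, le_trans hVle inf_le_right, rs F (le_trans hVle inf_le_left) t, fun z' hz' hs' => ?_⟩
    rw [germ_rs, ht z' (hVle hz').1 hs']
  choose V hV hxV hVle t ht using hsec
  obtain ⟨T, hT⟩ := (f.isCompact_preimage hO0.isCompact).elim_finite_subcover
    (fun x : ↥(f ⁻¹ᵁ O0) => (V x : Set X)) (fun x => (V x).isOpen)
    fun x hx => Set.mem_iUnion.2 ⟨⟨x, hx⟩, hxV ⟨x, hx⟩⟩
  choose P hsP hP using fun p : ↥(f ⁻¹ᵁ O0) × ↥(f ⁻¹ᵁ O0) =>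
    eq_near f F s hO0 hsO0 (K := V p.1 ⊓ V p.2)
      (f.isQuasiSeparated_preimage hO0.isQuasiSeparated _ _ (hVle p.1) (V p.1).isOpen (hV p.1).isCompact
        (hVle p.2) (V p.2).isOpen (hV p.2).isCompact)
      (le_trans inf_le_left (hVle p.1)) (rs F inf_le_left (t p.1)) (rs F inf_le_right (t p.2))
      fun z hz hzs => by rw [germ_rs, germ_rs, ht p.1 z hz.1 hzs, ht p.2 z hz.2 hzs]
  let O : S.Opens := O0 ⊓ ⟨⋂ p ∈ T ×ˢ T, (P p : Set S), isOpen_biInter_finset fun p _ => (P p).isOpen⟩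
  have hsO : s ∈ O := ⟨hsO0, Set.mem_iInter₂.2 fun p _ => hsP p⟩
  obtain ⟨y, hy⟩ := Groth.L16.HomSh.exists_glue F (fun i : (T : Set ↥(f ⁻¹ᵁ O0)) => V i.1 ⊓ f ⁻¹ᵁ O)
    (W := f ⁻¹ᵁ O) (fun _ => inf_le_right)
    (fun x hx => by
      obtain ⟨i, hiT, hxi⟩ := Set.mem_iUnion₂.1 (hT (show x ∈ f ⁻¹ᵁ O0 from hx.1))
      exact Opens.mem_iSup.2 ⟨⟨i, hiT⟩, hxi, hx⟩)
    (fun i => rs F inf_le_left (t i.1)) fun i j => sec_ext fun z hz => by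
      rw [germ_rs, germ_rs, germ_rs, germ_rs]
      have hzP : z ∈ (V i.1 ⊓ V j.1) ⊓ f ⁻¹ᵁ P (i.1, j.1) :=
        ⟨⟨hz.1.1, hz.2.1⟩, Set.mem_iInter₂.1 hz.1.2.2 (i.1, j.1) (Finset.mem_product.2 ⟨i.2, j.2⟩)⟩
      have := congrArg (F.presheaf.germ _ z hzP) (hP (i.1, j.1))
      rwa [germ_rs, germ_rs, germ_rs, germ_rs] at this
  refine ⟨O, hsO, y, fun z hz => ?_⟩
  have hzO : z ∈ f ⁻¹ᵁ O := hz.mem_open O.2 hsO
  obtain ⟨i, hiT, hzi⟩ := Set.mem_iUnion₂.1 (hT (show z ∈ f ⁻¹ᵁ O0 from hzO.1))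
  rw [← germ_rs F (inf_le_right : V i ⊓ f ⁻¹ᵁ O ≤ f ⁻¹ᵁ O) ⟨hzi, hzO⟩ y, hy ⟨i, hiT⟩, germ_rs, ht i z hzi hz]

end Groth.L07.PushDepth
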