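import Groth.Agent.L07.PushDepth.Near
import Groth.Agent.L22.Cyc.OrdGen
import Groth.Prelude.Def_CAlg

/-!
Germs at the generalisations of elements of the stalk of a direct image.
-/

set_option autoImplicit false
set_option linter.style.haveILetI false
set_option backward.isDefEq.respectTransparency false
set_option backward.isDefEq.respectTransparency.types false

universe u

open CategoryTheory AlgebraicGeometry TopologicalSpace Opposite

noncomputable section

namespace Groth.L07.PushDepth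

open Groth.L18.Frame (rs rs_rs rs_smul)
open Groth.L20.ModStalk (germ_rs germ_smul)

variable {X S : Scheme.{u}} (f : X ⟶ S) (F : X.Modules) (s : S)

/-- The direct image. -/
abbrev push : S.Modules := (Scheme.Modules.pushforward f).obj F

/-- The germ at a point over a generalisation of `s`. -/
def ev {z : X} (h : f z ⤳ s) : (push f F).presheaf.stalk s →+ F.presheaf.stalk z :=
  ((push f F).presheaf.stalkSpecializes h ≫
    TopCat.Presheaf.stalkPushforward Ab f.base F.presheaf z).hom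

/-- The map of local rings at a point over a generalisation of `s`. -/
def evRing {z : X} (h : f z ⤳ s) : S.presheaf.stalk s →+* X.presheaf.stalk z :=
  (f.stalkMap z).hom.comp (S.presheaf.stalkSpecializes h).hom

theorem ev_germ {z : X} (h : f z ⤳ s) (O : S.Opens) (hs : s ∈ O) (y : Γ(F, f ⁻¹ᵁ O)) :
    ev f F s h ((push f F).presheaf.germ O s hs y) = F.presheaf.germ (f ⁻¹ᵁ O) z (h.mem_open O.2 hs) y := by
  refine (congrArg (TopCat.Presheaf.stalkPushforward Ab f.base F.presheaf z)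
    (TopCat.Presheaf.germ_stalkSpecializes_apply (push f F).presheaf hs h y)).trans ?_
  exact ConcreteCategory.congr_hom
    (TopCat.Presheaf.stalkPushforward_germ Ab f.base F.presheaf O z (h.mem_open O.2 hs)) y

theorem evRing_germ {z : X} (h : f z ⤳ s) (O : S.Opens) (hs : s ∈ O) (a : Γ(S, O)) :
    evRing f s h (S.presheaf.germ O s hs a) = X.presheaf.germ (f ⁻¹ᵁ O) z (h.mem_open O.2 hs) (f.app O a) := by
  refine (congrArg (f.stalkMap z) (TopCat.Presheaf.germ_stalkSpecializes_apply S.presheaf hs h a)).trans ?_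
  exact Scheme.Hom.germ_stalkMap_apply f O z (h.mem_open O.2 hs) a

theorem exists_rep (v : (push f F).presheaf.stalk s) :
    ∃ (O : S.Opens) (hs : s ∈ O) (y : Γ(F, f ⁻¹ᵁ O)), (push f F).presheaf.germ O s hs y = v :=
  TopCat.Presheaf.exists_germ_eq (F := (push f F).presheaf) v

theorem ev_smul {z : X} (h : f z ⤳ s) (r : S.presheaf.stalk s) (v : (push f F).presheaf.stalk s) :
    ev f F s h (r • v) = evRing f s h r • ev f F s h v := by
  obtain ⟨O, hsO, y, rfl⟩ := exists_rep f F s v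
  obtain ⟨O', hsO', a, rfl⟩ := TopCat.Presheaf.exists_germ_eq (F := S.presheaf) r
  have hmem : s ∈ O' ⊓ O := ⟨hsO', hsO⟩
  rw [← TopCat.Presheaf.germ_res_apply S.presheaf (homOfLE (inf_le_left : O' ⊓ O ≤ O')) s hmem a,
    ← germ_rs (push f F) (inf_le_right : O' ⊓ O ≤ O) hmem y, ← germ_smul (push f F) hmem, ev_germ, ev_germ, evRing_germ]
  exact germ_smul F (h.mem_open (O' ⊓ O).2 hmem) _ _

theorem ext [QuasiCompact f] (v w : (push f F).presheaf.stalk s)
    (h : ∀ (z : X) (hz : f z ⤳ s), ev f F s hz v = ev f F s hz w) : v = w := by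
  obtain ⟨O, hsO, a, rfl⟩ := exists_rep f F s v
  obtain ⟨O', hsO', b, rfl⟩ := exists_rep f F s w
  obtain ⟨W, hW, hsW, hWle⟩ := exists_isAffineOpen_mem_and_subset (x := s) (U := O ⊓ O') ⟨hsO, hsO'⟩
  have h1 : W ≤ O := le_trans hWle inf_le_left
  have h2 : W ≤ O' := le_trans hWle inf_le_right
  obtain ⟨P, hsP, hP⟩ := eq_near f F s hW hsW (f.isCompact_preimage hW.isCompact) le_rfl
    (rs F (f.preimage_mono h1) a) (rs F (f.preimage_mono h2) b) fun z hz hzs => by
      have := h z hzs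
      rw [ev_germ, ev_germ] at this
      rwa [germ_rs, germ_rs]
  have hmem : s ∈ W ⊓ P := ⟨hsW, hsP⟩
  rw [← germ_rs (push f F) (le_trans inf_le_left h1 : W ⊓ P ≤ O) hmem a,
    ← germ_rs (push f F) (le_trans inf_le_left h2 : W ⊓ P ≤ O') hmem b]
  refine congrArg ((push f F).presheaf.germ (W ⊓ P) s hmem) ?_
  exact (rs_rs F (f.preimage_mono h1) (inf_le_left : f ⁻¹ᵁ W ⊓ f ⁻¹ᵁ P ≤ f ⁻¹ᵁ W) a).symm.trans
    (hP.trans (rs_rs F (f.preimage_mono h2) (inf_le_left : f ⁻¹ᵁ W ⊓ f ⁻¹ᵁ P ≤ f ⁻¹ᵁ W) b))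

theorem exists_of_germs [QuasiCompact f] [QuasiSeparated f] (σ : ∀ z : X, f z ⤳ s → F.presheaf.stalk z)
    (hloc : ∀ z : X, f z ⤳ s → ∃ (N : X.Opens) (_ : z ∈ N) (t : Γ(F, N)),
      ∀ (z' : X) (hz' : z' ∈ N) (hs' : f z' ⤳ s), F.presheaf.germ N z' hz' t = σ z' hs') :
    ∃ v : (push f F).presheaf.stalk s, ∀ (z : X) (hz : f z ⤳ s), ev f F s hz v = σ z hz := by
  obtain ⟨O, hsO, y, hy⟩ := exists_glue_near f F s σ hloc
  exact ⟨(push f F).presheaf.germ O s hsO y, fun z hz => (ev_germ f F s hz O hsO y).trans (hy z hz)⟩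

/-- Away from the fibre some element of the maximal ideal becomes invertible. -/
theorem exists_isUnit {z : X} (h : f z ⤳ s) (hne : f z ≠ s) :
    ∃ r ∈ IsLocalRing.maximalIdeal (S.presheaf.stalk s), IsUnit (evRing f s h r) := by
  have h' : ¬ s ⤳ f z := fun h' => hne (h.antisymm h').eq
  rw [specializes_iff_forall_open] at h'
  push Not at h'
  obtain ⟨O, hO, hzO, hsO⟩ := h'
  obtain ⟨W, hW, hsW, -⟩ := exists_isAffineOpen_mem_and_subset (x := s) (U := ⊤) trivial
  obtain ⟨g, hgle, hzg⟩ := hW.exists_basicOpen_le (V := ⟨O, hO⟩) ⟨f z, hzO⟩ (h.mem_open W.2 hsW)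
  refine ⟨S.presheaf.germ W s hsW g, ?_, ?_⟩
  · rw [IsLocalRing.mem_maximalIdeal, mem_nonunits_iff]
    exact fun hu => hsO (hgle ((S.mem_basicOpen g s hsW).2 hu))
  · show IsUnit (f.stalkMap z (S.presheaf.stalkSpecializes h (S.presheaf.germ W s hsW g)))
    rw [TopCat.Presheaf.germ_stalkSpecializes_apply]
    exact ((S.mem_basicOpen g _ _).1 hzg).map (f.stalkMap z).hom

end Groth.L07.PushDepth
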